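import Mathlib

/-!
# Tame character and wild inertia of a maximal ideal under a finite group action
-/

open scoped Pointwise

namespace Groth.Agent.WildInertia

section Ring

variable {B G : Type*} [CommRing B] [Group G] [MulSemiringAction G B] (m : Ideal B)

theorem mem_inertia_iff {I : Ideal B} {σ : G} :
    σ ∈ I.inertia G ↔ ∀ x, σ • x - x ∈ I := Iff.rfl

theorem smul_mem_of_mem_stabilizer {I : Ideal B} {σ : G} (h : σ ∈ MulAction.stabilizer G I)
    {x : B} (hx : x ∈ I) : σ • x ∈ I := by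
  have := Ideal.smul_mem_pointwise_smul σ x I hx
  rwa [MulAction.mem_stabilizer_iff.mp h] at this

theorem sq_inertia_le : (m ^ 2).inertia G ≤ m.inertia G :=
  fun _ hσ x ↦ Ideal.pow_le_self two_ne_zero (hσ x)

variable {m}

theorem stabilizer_le_stabilizer_pow (n : ℕ) :
    MulAction.stabilizer G m ≤ MulAction.stabilizer G (m ^ n) := by
  intro σ hσ
  rw [MulAction.mem_stabilizer_iff] at hσ ⊢
  rw [smul_pow', hσ]

theorem conj_mem_inertia {I : Ideal B} {g σ : G} (hg : g ∈ MulAction.stabilizer G I)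
    (hσ : σ ∈ I.inertia G) : g * σ * g⁻¹ ∈ I.inertia G := by
  intro x
  have h := smul_mem_of_mem_stabilizer hg (hσ (g⁻¹ • x))
  rw [smul_sub, smul_inv_smul] at h
  rwa [mul_smul, mul_smul]

theorem smul_sub_mem_pow_succ {σ : G} (hσ : σ ∈ (m ^ 2).inertia G) :
    ∀ (n : ℕ) {y : B}, y ∈ m ^ n → σ • y - y ∈ m ^ (n + 1) := by
  intro n
  induction n with
  | zero =>
    intro y _
    rw [zero_add, pow_one]
    exact sq_inertia_le m hσ y
  | succ n ih =>
    intro y hy
    rw [pow_succ] at hy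
    induction hy using Submodule.mul_induction_on' with
    | mem_mul_mem a ha b hb =>
      have hσa : σ • a ∈ m ^ n :=
        smul_mem_of_mem_stabilizer (stabilizer_le_stabilizer_pow n
          (Ideal.inertia_le_stabilizer m (sq_inertia_le m hσ))) ha
      have e : σ • (a * b) - a * b = σ • a * (σ • b - b) + (σ • a - a) * b := by
        rw [smul_mul']; ring
      rw [e]
      refine add_mem ?_ ?_
      · rw [show n + 1 + 1 = n + 2 from rfl, pow_add]
        exact Ideal.mul_mem_mul hσa (hσ b)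
      · rw [pow_succ _ (n + 1)]
        exact Ideal.mul_mem_mul (ih ha) hb
    | add a _ b _ ha hb =>
      have e : σ • (a + b) - (a + b) = (σ • a - a) + (σ • b - b) := by
        rw [smul_add]; ring
      rw [e]
      exact add_mem ha hb

theorem pow_smul_sub_mem {σ : G} (hσ : σ ∈ (m ^ 2).inertia G) {n : ℕ}
    (hn : σ ∈ (m ^ n).inertia G) (x : B) :
    ∀ q : ℕ, (σ ^ q) • x - x - (q : B) * (σ • x - x) ∈ m ^ (n + 1) := by
  intro q
  induction q with
  | zero => simp
  | succ q ih =>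
    have hy : (σ ^ q) • x - x ∈ m ^ n := ((m ^ n).inertia G).pow_mem hn q x
    have h1 := smul_sub_mem_pow_succ hσ n hy
    rw [smul_sub, ← mul_smul, ← pow_succ'] at h1
    convert add_mem h1 ih using 1
    push_cast
    ring

variable [IsDomain B] [IsNoetherianRing B] [m.IsMaximal] [FaithfulSMul G B]

/-- An element acting trivially modulo `m ^ 2` whose order is invertible modulo `m` is trivial. -/
theorem eq_one_of_orderOf_notMem {σ : G} (hσ : σ ∈ (m ^ 2).inertia G)
    (hr : (orderOf σ : B) ∉ m) : σ = 1 := by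
  have h : ∀ n : ℕ, σ ∈ (m ^ (n + 2)).inertia G := by
    intro n
    induction n with
    | zero => exact hσ
    | succ n ih =>
      intro x
      have h1 := pow_smul_sub_mem hσ ih x (orderOf σ)
      rw [pow_orderOf_eq_one, one_smul, sub_self, zero_sub, Ideal.neg_mem_iff] at h1
      exact (Ideal.IsMaximal.mul_mem_pow m h1).resolve_left hr
  refine eq_of_smul_eq_smul (α := B) fun x ↦ ?_
  rw [one_smul, ← sub_eq_zero, ← Submodule.mem_bot B,
    ← Ideal.iInf_pow_eq_bot_of_isDomain m (Ideal.IsPrime.ne_top inferInstance)]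
  exact Submodule.mem_iInf _ |>.mpr fun n ↦ Ideal.pow_le_pow_right (Nat.le_add_right n 2) (h n x)

theorem isPGroup_sq_inertia [Finite G] {p : ℕ} (hp : p.Prime) (hpm : (p : B) ∈ m) :
    IsPGroup p ((m ^ 2).inertia G) := by
  rintro ⟨σ, hσ⟩
  obtain ⟨a, r, hr, he⟩ := Nat.exists_eq_pow_mul_and_not_dvd (orderOf_pos σ).ne' p hp.ne_one
  refine ⟨a, Subtype.ext ?_⟩
  have hτ : orderOf (σ ^ p ^ a) = r := by
    rw [orderOf_pow' σ (pow_ne_zero _ hp.ne_zero), he, Nat.gcd_eq_right (dvd_mul_right _ _),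
      Nat.mul_div_cancel_left _ (pow_pos hp.pos _)]
  refine eq_one_of_orderOf_notMem (pow_mem hσ _) fun hrm ↦ ?_
  simp only [Subgroup.coe_pow, hτ] at hrm
  have h1 := Nat.Coprime.cast (R := B) ((Nat.Prime.coprime_iff_not_dvd hp).mpr hr)
  obtain ⟨c, d, hcd⟩ := h1
  exact Ideal.IsPrime.ne_top (I := m) inferInstance <| (Ideal.eq_top_iff_one _).mpr
    (hcd ▸ add_mem (m.mul_mem_left c hpm) (m.mul_mem_left d hrm))

end Ring

section Tame

variable {A B G : Type*} [CommRing A] [CommRing B] [Algebra A B] [IsDedekindDomain B] [Group G]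
  [MulSemiringAction G B] (m : Ideal B) [m.IsMaximal]

theorem exists_generator_mod_sq (hm : m ≠ ⊥) :
    ∃ π : B, π ∈ m ∧ π ∉ m ^ 2 ∧ ∀ z ∈ m, ∃ b : B, z - b * π ∈ m ^ 2 := by
  obtain ⟨π, h1, h2⟩ := Ideal.exists_mem_pow_notMem_pow_succ m hm
    (Ideal.IsPrime.ne_top inferInstance) 1
  rw [pow_one] at h1
  refine ⟨π, h1, h2, fun z hz ↦ ?_⟩
  have heq : Ideal.span {π} ⊔ m ^ 2 = m ^ 1 := by
    refine Ideal.eq_prime_pow_of_succ_lt_of_le hm (lt_of_le_of_ne le_sup_right ?_) ?_
    · intro h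
      apply h2
      rw [h]
      exact Ideal.mem_sup_left (Ideal.mem_span_singleton_self π)
    · rw [pow_one]
      exact sup_le ((Ideal.span_singleton_le_iff_mem _).mpr h1) (Ideal.pow_le_self two_ne_zero)
  rw [pow_one] at heq
  rw [← heq] at hz
  obtain ⟨y, hy, w, hw, rfl⟩ := Submodule.mem_sup.mp hz
  obtain ⟨b, rfl⟩ := Ideal.mem_span_singleton'.mp hy
  exact ⟨b, by simpa using hw⟩

variable {m}

omit [IsDedekindDomain B] in
theorem mk_eq_of_mul_mem_sq {π : B} (hπ : π ∉ m ^ 2) {u v : B}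
    (h : (u - v) * π ∈ m ^ 2) : Ideal.Quotient.mk m u = Ideal.Quotient.mk m v :=
  Ideal.Quotient.eq.mpr ((Ideal.IsMaximal.mul_mem_pow m h).resolve_right hπ)

variable (A) in
/-- The tame character: a homomorphism `m.inertia G → (B ⧸ m)ˣ` whose kernel consists, when the
residue extension is separable, of the elements acting trivially modulo `m ^ 2`. -/
theorem exists_tame_character (hm : m ≠ ⊥) [SMulCommClass G A B]
    (hsep : ∀ x : B, ∃ f : Polynomial A,
      Polynomial.aeval x f ∈ m ∧ Polynomial.aeval x f.derivative ∉ m) :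
    ∃ θ : m.inertia G →* (B ⧸ m)ˣ,
      ∀ σ : m.inertia G, θ σ = 1 ↔ (σ : G) ∈ (m ^ 2).inertia G := by
  obtain ⟨π, hπm, hπ2, hgen⟩ := exists_generator_mod_sq m hm
  have hst : ∀ σ : m.inertia G, (σ : G) ∈ MulAction.stabilizer G m :=
    fun σ ↦ Ideal.inertia_le_stabilizer m σ.2
  have hex : ∀ σ : m.inertia G, ∃ u : B, (σ : G) • π - u * π ∈ m ^ 2 :=
    fun σ ↦ hgen _ (smul_mem_of_mem_stabilizer (hst σ) hπm)
  choose u hu using hex
  have huniq : ∀ (σ : m.inertia G) (v : B), (σ : G) • π - v * π ∈ m ^ 2 →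
      Ideal.Quotient.mk m (u σ) = Ideal.Quotient.mk m v := by
    intro σ v hv
    refine mk_eq_of_mul_mem_sq hπ2 ?_
    convert sub_mem hv (hu σ) using 1
    ring
  let θ₀ : m.inertia G →* B ⧸ m :=
    { toFun := fun σ ↦ Ideal.Quotient.mk m (u σ)
      map_one' := by
        rw [huniq 1 1 (by simp), map_one]
      map_mul' := by
        intro σ τ
        rw [huniq (σ * τ) (u σ * u τ) ?_, map_mul]
        have h1 : (σ : G) • ((τ : G) • π - u τ * π) ∈ m ^ 2 :=
          smul_mem_of_mem_stabilizer (stabilizer_le_stabilizer_pow 2 (hst σ)) (hu τ)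
        have h2 : ((σ : G) • u τ - u τ) * ((σ : G) • π) ∈ m ^ 2 := by
          rw [pow_two]
          exact Ideal.mul_mem_mul (σ.2 (u τ)) (smul_mem_of_mem_stabilizer (hst σ) hπm)
        rw [Subgroup.coe_mul, mul_smul]
        rw [smul_sub, smul_mul'] at h1
        convert add_mem (add_mem h1 h2) (Ideal.mul_mem_left _ (u τ) (hu σ)) using 1
        ring }
  refine ⟨θ₀.toHomUnits, fun σ ↦ ⟨fun h ↦ ?_, fun h ↦ ?_⟩⟩
  · have h1 : Ideal.Quotient.mk m (u σ) = Ideal.Quotient.mk m 1 := by
      rw [map_one]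
      simpa [Units.ext_iff, θ₀] using h
    have hπfix : (σ : G) • π - π ∈ m ^ 2 := by
      have h2 : (u σ - 1) * π ∈ m ^ 2 := by
        rw [pow_two]
        exact Ideal.mul_mem_mul (Ideal.Quotient.eq.mp h1) hπm
      convert add_mem (hu σ) h2 using 1
      ring
    -- elements of `m` are fixed modulo `m ^ 2`
    have hfix : ∀ z ∈ m, (σ : G) • z - z ∈ m ^ 2 := by
      intro z hz
      obtain ⟨b, hb⟩ := hgen z hz
      have e1 : ((σ : G) • b - b) * ((σ : G) • π) ∈ m ^ 2 := by
        rw [pow_two]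
        exact Ideal.mul_mem_mul (σ.2 b) (smul_mem_of_mem_stabilizer (hst σ) hπm)
      have e2 : (σ : G) • (z - b * π) ∈ m ^ 2 :=
        smul_mem_of_mem_stabilizer (stabilizer_le_stabilizer_pow 2 (hst σ)) hb
      rw [smul_sub, smul_mul'] at e2
      convert add_mem (sub_mem e2 hb) (add_mem e1 (Ideal.mul_mem_left _ b hπfix)) using 1
      ring
    intro x
    obtain ⟨f, hf, hf'⟩ := hsep x
    have hy : (σ : G) • x - x ∈ m := σ.2 x
    have hcomm : Polynomial.aeval ((σ : G) • x) f = (σ : G) • Polynomial.aeval x f :=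
      Polynomial.aeval_algHom_apply (MulSemiringAction.toAlgHom A B (σ : G)) x f
    obtain ⟨k, hk⟩ := Polynomial.binomExpansion (f.map (algebraMap A B)) x ((σ : G) • x - x)
    simp only [add_sub_cancel, Polynomial.derivative_map, Polynomial.eval_map_algebraMap] at hk
    rw [hcomm] at hk
    have h3 : Polynomial.aeval x f.derivative * ((σ : G) • x - x) ∈ m ^ 2 := by
      convert sub_mem (hfix _ hf) (Ideal.mul_mem_left _ k (Ideal.pow_mem_pow hy 2)) using 1
      rw [hk]; ring
    exact (Ideal.IsMaximal.mul_mem_pow m h3).resolve_left hf'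
  · refine Units.ext ?_
    show Ideal.Quotient.mk m (u σ) = 1
    rw [huniq σ 1 (by simpa using h π), map_one]

end Tame

section Count

variable {k : Type*} [CommRing k] [IsDomain k] {H : Type*} [Group H] [Finite H]

theorem not_dvd_natCard_of_subgroup_units {p : ℕ} [hp : Fact p.Prime] [CharP k p]
    (S : Subgroup kˣ) [Finite S] : ¬ p ∣ Nat.card S := by
  intro hdvd
  obtain ⟨x, hx⟩ := exists_prime_orderOf_dvd_card' (G := S) p hdvd
  have hx1 : (((x : kˣ) : k)) ^ p = 1 := by
    rw [← Units.val_pow_eq_pow_val, ← Subgroup.coe_pow, ← hx, pow_orderOf_eq_one]; rfl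
  have hx2 : ((x : kˣ) : k) = 1 := by
    have h := (ExpChar.pow_prime_pow_mul_eq_one_iff p 1 1 ((x : kˣ) : k)).mp
      (by simpa using hx1)
    simpa using h
  have : x = 1 := Subtype.ext (Units.ext hx2)
  rw [this, orderOf_one] at hx
  exact hp.out.one_lt.ne hx

theorem range_eq_rootsOfUnity (θ : H →* kˣ) {e : ℕ} (hdvd : Nat.card θ.range ∣ e)
    (hle : rootsOfUnity e k ≤ rootsOfUnity (Nat.card θ.range) k) :
    θ.range = rootsOfUnity e k := by
  have : Finite θ.range := Finite.of_surjective _ θ.rangeRestrict_surjective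
  have : NeZero (Nat.card θ.range) := ⟨Nat.card_pos.ne'⟩
  have h1 : θ.range = rootsOfUnity (Nat.card θ.range) k := by
    refine Subgroup.eq_of_le_of_card_ge (fun x hx ↦ ?_) (card_rootsOfUnity k _)
    rw [mem_rootsOfUnity]
    exact congrArg Subtype.val (pow_card_eq_one' (x := (⟨x, hx⟩ : θ.range)))
  refine le_antisymm (h1.trans_le (rootsOfUnity_le_of_dvd hdvd)) (hle.trans h1.ge)

end Count

end Groth.Agent.WildInertia
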