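import Mathlib

/-!
# The order of the inertia group when the residue extension is separable
-/

open scoped Pointwise

attribute [local instance] Ideal.Quotient.field

namespace Groth.Agent.WildInertia

variable {R S G : Type*} [CommRing R] [CommRing S] [Algebra R S] [Group G]
  [MulSemiringAction G S] [IsGaloisGroup G R S] [Finite G]

theorem card_stabilizer_eq_card_inertia_mul (p : Ideal R) [p.IsMaximal] (P : Ideal S)
    [P.LiesOver p] [P.IsMaximal] [Algebra.IsSeparable (R ⧸ p) (S ⧸ P)] :
    Nat.card (MulAction.stabilizer G P) = Nat.card (P.inertia G) * P.inertiaDeg R := by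
  have : Normal (R ⧸ p) (S ⧸ P) := Ideal.Quotient.normal G p P
  have : Module.Finite (R ⧸ p) (S ⧸ P) := Ideal.Quotient.finite_of_isInvariant G p P
  have : IsGalois (R ⧸ p) (S ⧸ P) := ⟨⟩
  have h : Subgroup.index _ = _ := Nat.card_congr
    (Ideal.Quotient.stabilizerQuotientInertiaEquiv G p P).toEquiv
  rw [Ideal.inertiaDeg_eq_of_isMaximal p P, ← IsGalois.card_aut_eq_finrank (R ⧸ p) (S ⧸ P), ← h,
    ← ((Ideal.inertia G P).subgroupOf (MulAction.stabilizer G P)).card_mul_index,
    Nat.card_congr (Subgroup.subgroupOfEquivOfLe (Ideal.inertia_le_stabilizer (M := G) P)).toEquiv,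
    AddSubgroup.subgroupOf_inertia]

theorem card_inertia_eq_ramificationIdx [IsDomain R] [IsDomain S] [Module.Finite R S]
    [Module.Flat R S] (p : Ideal R) [p.IsMaximal] (P : Ideal S) [P.LiesOver p] [P.IsMaximal]
    [Algebra.IsSeparable (R ⧸ p) (S ⧸ P)] :
    Nat.card (P.inertia G) = P.ramificationIdx R := by
  have H : (p.primesOver S).ncard * Nat.card (MulAction.stabilizer G P) = Nat.card G := by
    rw [← Algebra.IsInvariant.orbit_eq_primesOver R S G p P]
    simpa using Nat.card_congr (MulAction.orbitProdStabilizerEquivGroup G P)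
  rw [card_stabilizer_eq_card_inertia_mul p P,
    ← Ideal.ncard_primesOver_mul_ramificationIdxIn_mul_inertiaDegIn p S G,
    Ideal.ramificationIdxIn_eq_ramificationIdx p P G, Ideal.inertiaDegIn_eq_inertiaDeg p P G] at H
  have h1 : (p.primesOver S).ncard ≠ 0 := fun h ↦ by
    obtain ⟨⟨Q, hQ⟩⟩ := (inferInstance : Nonempty (Ideal.primesOver p S))
    rw [Set.ncard_eq_zero ((Algebra.QuasiFinite.finite_primesOver p))] at h
    exact (h ▸ hQ : Q ∈ (∅ : Set (Ideal S)))
  exact mul_right_cancel₀ (Ideal.inertiaDeg_pos P R).ne' (mul_left_cancel₀ h1 H)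

theorem exists_separating_polynomial (p : Ideal R) [p.IsMaximal] (P : Ideal S) [P.LiesOver p]
    [P.IsMaximal] [Algebra.IsSeparable (R ⧸ p) (S ⧸ P)] (x : S) :
    ∃ f : Polynomial R, Polynomial.aeval x f ∈ P ∧ Polynomial.aeval x f.derivative ∉ P := by
  obtain ⟨f, hf⟩ := Polynomial.map_surjective (algebraMap R (R ⧸ p)) Ideal.Quotient.mk_surjective
    (minpoly (R ⧸ p) (Ideal.Quotient.mk P x))
  have key : ∀ g : Polynomial R, Ideal.Quotient.mk P (Polynomial.aeval x g) =
      Polynomial.aeval (Ideal.Quotient.mk P x) (g.map (algebraMap R (R ⧸ p))) := by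
    intro g
    rw [Polynomial.aeval_map_algebraMap]
    exact (Polynomial.aeval_algHom_apply (Ideal.Quotient.mkₐ R P) x g).symm
  refine ⟨f, ?_, ?_⟩
  · rw [← Ideal.Quotient.eq_zero_iff_mem, key, hf, minpoly.aeval]
  · rw [← Ideal.Quotient.eq_zero_iff_mem, key, ← Polynomial.derivative_map, hf]
    exact (Algebra.IsSeparable.isSeparable (R ⧸ p) (Ideal.Quotient.mk P x)).aeval_derivative_ne_zero
      (minpoly.aeval _ _)

end Groth.Agent.WildInertia
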